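import Groth.Prelude.Def_StMod2
import Groth.Prelude.Def_AlgSp3
import Groth.Agent.Lib.StAlg16.QCMor
import Groth.Agent.Lib.LimSys14.Apps
import Groth.Agent.S12981

/-!
# Representable affine morphisms to algebraic spaces are cohomologically affine and quasi-compact
-/

universe w v u

open CategoryTheory CategoryTheory.Limits AlgebraicGeometry Opposite

set_option linter.style.haveILetI false
set_option backward.isDefEq.respectTransparency false
set_option backward.isDefEq.respectTransparency.types false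

namespace Groth.Agent.CohAff16

variable {S : Scheme.{u}}

/-- If the pairs `(ξ, α)` over `η` have a final one with affine scheme, taking sections over `η` preserves surjections. -/
theorem relSectMap_surjective {𝒳 : BasedCategory.{v, w} (Over S)} {M : AlgSp.Sp S} (π : 𝒳 ⥤ᵇ AlgSt.ofSp M)
    (η : (AlgSt.ofSp M).obj) (ξ₀ : 𝒳.obj) (α₀ : π.obj ξ₀ ⟶ η) (haff : IsAffine (StMod.sch 𝒳 ξ₀))
    (hex : ∀ (ξ : 𝒳.obj) (α : π.obj ξ ⟶ η), ∃! φ : ξ ⟶ ξ₀, π.map φ ≫ α₀ = α)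
    {F G : StMod.Mod 𝒳} (u : F ⟶ G) (hu : StMod.Mod.IsSurj u) :
    Function.Surjective (StMod.Mod.relSectMap π u η) := by
  intro t
  obtain ⟨a, ha⟩ := hu ξ₀ haff (t.1 ξ₀ α₀)
  choose φ hφ huniq using hex
  refine ⟨⟨fun ξ α => F.mapTop (φ ξ α) a, ?_⟩, ?_⟩
  · intro ξ' ξ ψ α
    dsimp only
    rw [← StMod.Mod.mapTop_comp]
    exact congrArg (fun χ => F.mapTop χ a) (huniq ξ' (π.map ψ ≫ α) (ψ ≫ φ ξ α)
      (show π.map (ψ ≫ φ ξ α) ≫ α₀ = π.map ψ ≫ α by rw [π.map_comp, Category.assoc, hφ]))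
  · refine StMod.Mod.RelSect.ext _ _ _ fun ξ α => ?_
    rw [StMod.Mod.relSectMap_val]
    show (u.app ξ).app ⊤ (F.mapTop (φ ξ α) a) = _
    rw [← StMod.Mod.mapTop_app, ha, t.2 (φ ξ α) α₀, hφ]

theorem map_op_comp {M : AlgSp.Sp S} {A B C : Over S} (g : A ⟶ B) (h : B ⟶ C) (x : M.obj.obj (op C)) :
    M.obj.map g.op (M.obj.map h.op x) = M.obj.map (g ≫ h).op x := by
  rw [op_comp, Functor.map_comp_apply]

/-- The functor from a scheme classifying a section. -/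
def secFun {M : AlgSp.Sp S} (η : (AlgSt.ofSp M).obj) : FibCat.overCat η.base ⥤ᵇ AlgSt.ofSp M where
  toFunctor :=
    { obj := fun g => ⟨g.left, M.obj.map g.hom.op η.sec⟩
      map := fun {g h} φ => ⟨φ.left, (map_op_comp φ.left h.hom η.sec).trans
        (congrArg (fun q => M.obj.map q.op η.sec) (Over.w φ))⟩ }
  w := rfl

/-- Over an affine scheme, a representable affine morphism has a final pair. -/
theorem exists_final {𝒳 : AlgSt.Cat S} {M : AlgSp.Sp S} (π : 𝒳 ⥤ᵇ AlgSt.ofSp M)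
    (hπ : AlgSt.RepByAlgSpWith AlgSp.IsAffineMor π) (η : (AlgSt.ofSp M).obj) (hη : IsAffine η.base.left) :
    ∃ (ξ₀ : 𝒳.obj) (α₀ : π.obj ξ₀ ⟶ η), IsAffine (StMod.sch 𝒳 ξ₀) ∧
      ∀ (ξ : 𝒳.obj) (α : π.obj ξ ⟶ η), ∃! φ : ξ ⟶ ξ₀, π.map φ ≫ α₀ = α := by
  obtain ⟨F, e, ⟨e', ⟨hee'⟩, ⟨he'e⟩⟩, haff⟩ := hπ η.base (secFun η)
  obtain ⟨W, i, fst, sq, hW⟩ := haff hη (𝟙 _)
  haveI : IsIso fst := sq.isIso_fst_of_isIso
  -- the final object of the category of sections of `F`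
  let w₀ : (AlgSt.ofSp F.obj).obj := ⟨W, fst.hom.app (op W) ⟨𝟙 W⟩⟩
  haveI : ∀ T, IsIso (fst.hom.app T) := fun T => by
    haveI : IsIso fst.hom := inferInstanceAs (IsIso ((sheafToPresheaf _ _).map fst))
    infer_instance
  have hfst : ∀ (T : Over S) (g : T ⟶ W), F.obj.obj.map g.op w₀.sec = fst.hom.app (op T) ⟨g⟩ := fun T g => by
    show F.obj.obj.map g.op (fst.hom.app (op W) ⟨𝟙 W⟩) = _
    rw [← NatTrans.naturality_apply]
    congr 1
  have hterm : ∀ a : (AlgSt.ofSp F.obj).obj, ∃! f : a ⟶ w₀, True := by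
    intro a
    have hb : Function.Bijective (fst.hom.app (op a.base)) :=
      ConcreteCategory.bijective_of_isIso (fst.hom.app (op a.base))
    obtain ⟨⟨g⟩, hg⟩ := hb.2 a.sec
    refine ⟨⟨g, (hfst a.base g).trans hg⟩, trivial, fun f _ => ?_⟩
    refine Stk.EltObj.hom_ext ?_
    exact congrArg ULift.down (hb.1 ((hfst a.base f.hom).symm.trans (f.map_sec.trans hg.symm)))
  -- transported to the fibre product
  let ω := e.obj w₀
  have hω : ∀ z : (FibCat.fp (secFun η) π).obj, ∃! f : z ⟶ ω, True := by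
    intro z
    haveI : e.toFunctor.IsEquivalence := Functor.IsEquivalence.mk' e'.toFunctor
      ((BasedNatTrans.forgetful _ _).mapIso hee').symm ((BasedNatTrans.forgetful _ _).mapIso he'e)
    let k : e.obj (e.toFunctor.objPreimage z) ≅ z := e.toFunctor.objObjPreimageIso z
    obtain ⟨f, -, hf⟩ := hterm (e.toFunctor.objPreimage z)
    refine ⟨k.inv ≫ e.map f, trivial, fun h _ => ?_⟩
    obtain ⟨f', hf'⟩ := e.toFunctor.map_surjective (k.hom ≫ h)
    rw [← hf f' trivial, hf', Iso.inv_hom_id_assoc]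
  let g₀ := ω.obj.fst
  let ξ₀ := ω.obj.snd
  let j₀ : (secFun η).obj g₀ ⟶ η := ⟨g₀.hom, rfl⟩
  let α₀ : π.obj ξ₀ ⟶ η := ω.obj.iso.inv ≫ j₀
  have hb₀ : 𝒳.p.obj ξ₀ = g₀.left := by
    haveI hL : (AlgSt.ofSp M).p.IsHomLift (𝟙 g₀.left) ω.obj.iso.hom := ω.property
    have h1 := IsHomLift.codomain_eq (AlgSt.ofSp M).p (𝟙 g₀.left) ω.obj.iso.hom
    exact (π.w_obj ξ₀).symm.trans h1
  have hW₀ : 𝒳.p.obj ξ₀ = W := by
    refine hb₀.trans ?_
    exact e.w_obj w₀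
  refine ⟨ξ₀, α₀, ?_, fun ξ α => ?_⟩
  · show IsAffine (𝒳.p.obj ξ₀).left
    rw [hW₀]
    exact hW
  have eb : (π.obj ξ).base = 𝒳.p.obj ξ := π.w_obj ξ
  let g : (FibCat.overCat η.base).obj := Over.mk (StMod.baseOver π ξ α)
  have hsec : M.obj.map (eqToHom eb.symm).op (π.obj ξ).sec =
      M.obj.map (eqToHom eb.symm ≫ α.hom).op η.sec :=
    (congrArg (fun x => M.obj.map (eqToHom eb.symm).op x) α.map_sec).symm.trans
      (map_op_comp (eqToHom eb.symm) α.hom η.sec)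
  have hsec' : M.obj.map (eqToHom eb).op (M.obj.map (eqToHom eb.symm ≫ α.hom).op η.sec) = (π.obj ξ).sec := by
    refine (map_op_comp (eqToHom eb) (eqToHom eb.symm ≫ α.hom) η.sec).trans ?_
    rw [eqToHom_trans_assoc, eqToHom_refl, Category.id_comp]
    exact α.map_sec
  let b : (secFun η).obj g ≅ π.obj ξ := {
    hom := ⟨eqToHom eb.symm, hsec⟩
    inv := ⟨eqToHom eb, hsec'⟩
    hom_inv_id := Stk.EltObj.hom_ext ((eqToHom_trans eb.symm eb).trans (eqToHom_refl _ _))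
    inv_hom_id := Stk.EltObj.hom_ext ((eqToHom_trans eb eb.symm).trans (eqToHom_refl _ _)) }
  have hbL : FibCat.fpProp (secFun η) π { fst := g, snd := ξ, iso := b } :=
    IsHomLift.of_fac' (AlgSt.ofSp M).p _ b.hom rfl (π.w_obj ξ) (by
      show eqToHom (π.w_obj ξ).symm = _
      simp)
  let z : (FibCat.fp (secFun η) π).obj := ⟨{ fst := g, snd := ξ, iso := b }, hbL⟩
  have hbα : b.inv ≫ (⟨g.hom, rfl⟩ : (secFun η).obj g ⟶ η) = α := Stk.EltObj.hom_ext (by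
    show eqToHom (π.w_obj ξ) ≫ eqToHom (π.w_obj ξ).symm ≫ α.hom = α.hom
    rw [eqToHom_trans_assoc, eqToHom_refl, Category.id_comp])
  obtain ⟨f, -, hf⟩ := hω z
  have key : ∀ f : z ⟶ ω, π.map f.hom.snd ≫ α₀ = α := fun f => by
    have hw : (secFun η).map f.hom.fst ≫ ω.obj.iso.hom = b.hom ≫ π.map f.hom.snd := f.hom.w
    have hw' : π.map f.hom.snd = b.inv ≫ (secFun η).map f.hom.fst ≫ ω.obj.iso.hom := by
      rw [hw, Iso.inv_hom_id_assoc]
    show π.map f.hom.snd ≫ ω.obj.iso.inv ≫ j₀ = α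
    rw [hw', Category.assoc, Category.assoc, Iso.hom_inv_id_assoc, ← hbα]
    congr 1
    exact Stk.EltObj.hom_ext (Over.w f.hom.fst)
  refine ⟨f.hom.snd, key f, fun φ hφ => ?_⟩
  let a : g ⟶ g₀ := Over.homMk (b.hom ≫ π.map φ ≫ ω.obj.iso.inv).hom (by
    have : (b.hom ≫ π.map φ ≫ ω.obj.iso.inv) ≫ j₀ = (⟨g.hom, rfl⟩ : (secFun η).obj g ⟶ η) := by
      rw [Category.assoc, Category.assoc, show π.map φ ≫ ω.obj.iso.inv ≫ j₀ = α from hφ, ← hbα,
        Iso.hom_inv_id_assoc]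
    exact congrArg Stk.EltObj.Hom.hom this)
  let f' : z ⟶ ω := ObjectProperty.homMk
    { fst := a
      snd := φ
      w := by
        have : (secFun η).map a = b.hom ≫ π.map φ ≫ ω.obj.iso.inv := Stk.EltObj.hom_ext rfl
        show (secFun η).map a ≫ ω.obj.iso.hom = b.hom ≫ π.map φ
        rw [this, Category.assoc, Category.assoc, Iso.inv_hom_id, Category.comp_id] }
  exact congrArg (fun h : z ⟶ ω => h.hom.snd) (hf f' trivial)

theorem isCohAffine_of_affine {𝒳 : AlgSt.Cat S} {M : AlgSp.Sp S} (π : 𝒳 ⥤ᵇ AlgSt.ofSp M)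
    (hπ : AlgSt.RepByAlgSpWith AlgSp.IsAffineMor π) : StMod.IsCohAffine π := by
  intro F G u hu E hE
  obtain ⟨ξ₀, α₀, h1, h2⟩ := exists_final π hπ (StMod.etaOf E) hE
  exact relSectMap_surjective π _ ξ₀ α₀ h1 h2 u.hom hu

theorem isQuasiCompactMor_of_affine {𝒳 : AlgSt.Cat S} (h𝒳 : AlgSt.IsAlgStack Scheme.fppfPrecoverage 𝒳)
    {M : AlgSp.Space S} (π : 𝒳 ⥤ᵇ AlgSt.ofSp M.obj) (hπ : AlgSt.RepByAlgSpWith AlgSp.IsAffineMor π) :
    AlgSt.IsQuasiCompactMor Scheme.fppfPrecoverage π := by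
  refine (S12981.result S 𝒳 (AlgSt.ofSp M.obj) h𝒳 (StAlg16.isAlgStack_ofSp M.property) π
    fun U y => ?_).1 fun U y => ?_
  · obtain ⟨F, e, he, -⟩ := hπ U y
    exact ⟨F, e, he⟩
  · obtain ⟨F, e, he, ha⟩ := hπ U y
    exact ⟨F, e, he, LimSys14.isQuasiCompactMor_of_isAffineMor F.property (AlgSp.IsAlgSpace.yon_obj U) ha⟩

end Groth.Agent.CohAff16
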